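import Groth.Prelude.Def_KZero
import Mathlib.Algebra.Category.ModuleCat.Abelian
import Mathlib.Algebra.Homology.ShortComplex.ModuleCat
import Mathlib.RingTheory.Length
import Mathlib.RingTheory.Finiteness.Prod
import Mathlib.RingTheory.HopkinsLevitzki
import Mathlib.Algebra.Module.Projective
import Mathlib.LinearAlgebra.Dimension.Constructions
import Mathlib.RingTheory.LocalRing.Module
import Mathlib.LinearAlgebra.Dimension.Finite

/-! Homomorphisms out of `K₀` of classes of modules; `K₀` of finite projectives over a local ring. -/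

set_option autoImplicit false
universe u

namespace Groth.Agent.K0Mod

open CategoryTheory KZero

variable {R : Type u} [CommRing R]

theorem exists_hom (P : ObjectProperty (ModuleCat.{u} R)) (v : ModuleCat.{u} R → ℤ)
    (hv : ∀ S : ShortComplex (ModuleCat.{u} R), S.ShortExact → P S.X₁ → P S.X₂ → P S.X₃ → v S.X₂ = v S.X₁ + v S.X₃) :
    ∃ φ : K0sub P →+ ℤ, ∀ M, P M → φ (clSub P M) = v M := by
  refine ⟨QuotientAddGroup.lift _ (FreeAbelianGroup.lift fun X => v X.1) ?_, fun M hM => ?_⟩
  · refine (AddSubgroup.closure_le _).2 ?_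
    rintro x ⟨S, h₁, h₂, h₃, hS, rfl⟩
    simp [AddMonoidHom.mem_ker, hv S hS h₁ h₂ h₃]
  · rw [clSub, dif_pos hM, QuotientAddGroup.lift_mk, FreeAbelianGroup.lift_apply_of]

theorem cl_add (P : ObjectProperty (ModuleCat.{u} R)) (S : ShortComplex (ModuleCat.{u} R)) (hS : S.ShortExact)
    (h₁ : P S.X₁) (h₂ : P S.X₂) (h₃ : P S.X₃) : clSub P S.X₂ = clSub P S.X₁ + clSub P S.X₃ := by
  simp only [clSub, dif_pos h₁, dif_pos h₂, dif_pos h₃]
  rw [← sub_eq_zero, ← QuotientAddGroup.mk_add, ← QuotientAddGroup.mk_sub, QuotientAddGroup.eq_zero_iff, ← sub_sub]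
  exact AddSubgroup.subset_closure ⟨S, h₁, h₂, h₃, hS, rfl⟩

/-- finite projective modules -/
abbrev FP (M : ModuleCat.{u} R) : Prop := Module.Finite R M ∧ Module.Projective R M

theorem fp_of (X : Type u) [AddCommGroup X] [Module R X] [Module.Finite R X] [Module.Projective R X] :
    FP (ModuleCat.of R X) := ⟨inferInstance, inferInstance⟩

theorem cl_zero (Z : Type u) [AddCommGroup Z] [Module R Z] [Subsingleton Z] [Module.Finite R Z] [Module.Projective R Z] :
    clSub (fun M : ModuleCat.{u} R => FP M) (ModuleCat.of R Z) = 0 := by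
  let S : ShortComplex (ModuleCat.{u} R) := ShortComplex.mk
    (ModuleCat.ofHom (LinearMap.id : Z →ₗ[R] Z)) (ModuleCat.ofHom (LinearMap.id : Z →ₗ[R] Z))
    (ModuleCat.hom_ext (LinearMap.ext fun z => Subsingleton.elim (α := Z) _ _))
  have hS : S.ShortExact :=
    { exact := (ShortComplex.ShortExact.moduleCat_exact_iff_function_exact S).2 fun z =>
        ⟨fun _ => ⟨z, rfl⟩, fun _ => Subsingleton.elim (α := Z) _ _⟩
      mono_f := (ModuleCat.mono_iff_injective _).2 fun a b h => h
      epi_g := (ModuleCat.epi_iff_surjective _).2 fun a => ⟨a, rfl⟩ }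
  have := cl_add (fun M : ModuleCat.{u} R => FP M) S hS (fp_of Z) (fp_of Z) (fp_of Z)
  simpa [S] using this

theorem cl_prod (A B : Type u) [AddCommGroup A] [Module R A] [Module.Finite R A] [Module.Projective R A]
    [AddCommGroup B] [Module R B] [Module.Finite R B] [Module.Projective R B] (X : ModuleCat.{u} R)
    (e : X ≃ₗ[R] A × B) :
    clSub (fun M : ModuleCat.{u} R => FP M) X =
      clSub (fun M : ModuleCat.{u} R => FP M) (ModuleCat.of R A) + clSub (fun M : ModuleCat.{u} R => FP M) (ModuleCat.of R B) := by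
  haveI : Module.Finite R X := Module.Finite.equiv e.symm
  haveI : Module.Projective R X := Module.Projective.of_equiv e.symm
  let S : ShortComplex (ModuleCat.{u} R) := ShortComplex.mk
    (ModuleCat.ofHom (e.symm.toLinearMap ∘ₗ LinearMap.inl R A B) : ModuleCat.of R A ⟶ X)
    (ModuleCat.ofHom (LinearMap.snd R A B ∘ₗ e.toLinearMap) : X ⟶ ModuleCat.of R B)
    (ModuleCat.hom_ext (LinearMap.ext fun a => by simp))
  have hS : S.ShortExact :=
    { exact := (ShortComplex.ShortExact.moduleCat_exact_iff_function_exact S).2 fun x => by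
        constructor
        · intro hx
          refine ⟨(e x).1, ?_⟩
          show e.symm ((e x).1, 0) = x
          rw [show ((e x).1, (0 : B)) = e x from Prod.ext rfl hx.symm, e.symm_apply_apply]
        · rintro ⟨a, rfl⟩
          show (e (e.symm (a, 0))).2 = 0
          rw [e.apply_symm_apply]
      mono_f := (ModuleCat.mono_iff_injective _).2 fun a b h => congrArg Prod.fst (e.symm.injective h)
      epi_g := (ModuleCat.epi_iff_surjective _).2 fun b => ⟨e.symm (0, b), by
        show (e (e.symm (0, b))).2 = b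
        rw [e.apply_symm_apply]⟩ }
  exact cl_add (fun M : ModuleCat.{u} R => FP M) S hS (fp_of A) ⟨inferInstance, inferInstance⟩ (fp_of B)

theorem cl_eq_smul (n : ℕ) : ∀ (X : ModuleCat.{u} R), Nonempty (X ≃ₗ[R] (Fin n → R)) →
    clSub (fun M : ModuleCat.{u} R => FP M) X = (n : ℤ) • clSub (fun M : ModuleCat.{u} R => FP M) (ModuleCat.of R R) := by
  induction n with
  | zero =>
    rintro X ⟨e⟩
    haveI : Subsingleton X := e.injective.subsingleton
    haveI : Module.Finite R X := Module.Finite.equiv e.symm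
    haveI : Module.Projective R X := Module.Projective.of_equiv e.symm
    rw [Nat.cast_zero, zero_smul]
    exact cl_zero X
  | succ n ih =>
    rintro X ⟨e⟩
    rw [cl_prod R (Fin n → R) X (e.trans (Fin.consLinearEquiv R (fun _ : Fin (n + 1) => R)).symm),
      ih (ModuleCat.of R (Fin n → R)) ⟨LinearEquiv.refl R _⟩, Nat.cast_succ, add_smul, one_smul, add_comm]

theorem exists_equiv_int [IsLocalRing R] :
    ∃ e : K0sub (fun M : ModuleCat.{u} R => FP M) ≃+ ℤ, e (clSub (fun M : ModuleCat.{u} R => FP M) (ModuleCat.of R R)) = 1 := by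
  classical
  let P : ObjectProperty (ModuleCat.{u} R) := fun M => FP M
  have hfree : ∀ M : ModuleCat.{u} R, FP M → Module.Free R M := fun M hM => by
    haveI := hM.1
    haveI := hM.2
    exact Module.free_of_flat_of_isLocalRing
  obtain ⟨φ, hφ⟩ := exists_hom P (fun M => (Module.finrank R M : ℤ)) fun S hS h₁ h₂ h₃ => by
    haveI := hfree _ h₁
    haveI := hfree _ h₃
    haveI := h₁.1
    haveI := h₃.1
    have hex := (ShortComplex.ShortExact.moduleCat_exact_iff_function_exact S).1 hS.exact
    haveI : Module.Projective R S.X₃ := h₃.2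
    obtain ⟨l, hl⟩ := Module.projective_lifting_property S.g.hom LinearMap.id ((ModuleCat.epi_iff_surjective _).1 hS.epi_g)
    obtain ⟨e, -⟩ := hex.splitSurjectiveEquiv ((ModuleCat.mono_iff_injective _).1 hS.mono_f) ⟨l, hl⟩
    rw [e.finrank_eq, Module.finrank_prod]
    push_cast
    rfl
  let ψ : ℤ →+ K0sub P := zmultiplesHom (K0sub P) (clSub P (ModuleCat.of R R))
  have h1 : φ (clSub P (ModuleCat.of R R)) = 1 := by
    rw [hφ _ (fp_of R)]
    simp
  have hψφ : ψ.comp φ = AddMonoidHom.id _ := by
    refine QuotientAddGroup.addMonoidHom_ext _ (FreeAbelianGroup.lift_ext _ _ fun X => ?_)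
    show ψ (φ (QuotientAddGroup.mk (FreeAbelianGroup.of X))) = QuotientAddGroup.mk (FreeAbelianGroup.of X)
    have hX : clSub P X.1 = QuotientAddGroup.mk (FreeAbelianGroup.of X) := by rw [clSub, dif_pos X.2]
    haveI := hfree _ X.2
    haveI := X.2.1
    rw [← hX, hφ _ X.2]
    show (Module.finrank R X.1 : ℤ) • clSub P (ModuleCat.of R R) = _
    exact (cl_eq_smul _ X.1 ⟨(Module.finBasis R X.1).equivFun⟩).symm
  have hφψ : φ.comp ψ = AddMonoidHom.id _ := by
    refine AddMonoidHom.ext_int ?_
    show φ ((1 : ℤ) • clSub P (ModuleCat.of R R)) = 1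
    rw [one_smul, h1]
  exact ⟨{ toFun := φ, invFun := ψ, left_inv := fun x => DFunLike.congr_fun hψφ x,
           right_inv := fun x => DFunLike.congr_fun hφψ x, map_add' := φ.map_add }, h1⟩

theorem exists_length_hom [IsArtinianRing R] :
    ∃ φ : K0sub (fun M : ModuleCat.{u} R => Module.Finite R M) →+ ℤ, ∀ (M : ModuleCat.{u} R), Module.Finite R M →
      φ (clSub (fun M : ModuleCat.{u} R => Module.Finite R M) M) = (Module.length R M).toNat := by
  refine exists_hom _ (fun M => ((Module.length R M).toNat : ℤ)) fun S hS h₁ h₂ h₃ => ?_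
  haveI := h₁
  haveI := h₃
  have h := Module.length_eq_add_of_exact S.f.hom S.g.hom ((ModuleCat.mono_iff_injective _).1 hS.mono_f)
    ((ModuleCat.epi_iff_surjective _).1 hS.epi_g) ((ShortComplex.ShortExact.moduleCat_exact_iff_function_exact S).1 hS.exact)
  haveI : IsNoetherian R S.X₁ := isNoetherian_of_isNoetherianRing_of_finite R _
  haveI : IsNoetherian R S.X₃ := isNoetherian_of_isNoetherianRing_of_finite R _
  rw [h, ENat.toNat_add Module.length_ne_top Module.length_ne_top]
  push_cast
  rfl

end Groth.Agent.K0Mod
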